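import Cfsg.Agent.Components.Basic
import Mathlib.GroupTheory.Sylow
import Mathlib

/-!
# Conjugate cyclic `p`-subgroups and components, given the odd order theorem
-/

namespace CfsgLib.CyclicConj

open Subgroup CfsgLib.Components

set_option linter.style.haveILetI false

universe u

variable {G : Type u} [Group G] [Finite G]

/-- Powers of two elements of `2`-power order generating conjugate subgroups. -/
theorem exists_conj_mem
    (hP : ∀ (p : ℕ), p.Prime → ∀ A B : Subgroup G, IsCyclic ↥A → IsCyclic ↥B → IsPGroup p ↥A →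
      Nat.card ↥A = Nat.card ↥B → ∃ g : G, B = A.map (MulAut.conj g).toMonoidHom)
    {x y : G} {a b : ℕ} (hx : orderOf x = 2 ^ a) (hy : orderOf y = 2 ^ b) (hab : a ≤ b) :
    ∃ (g : G) (j : ℤ), y ^ (2 ^ (b - a) : ℕ) = g * x ^ j * g⁻¹ := by
  set v := y ^ (2 ^ (b - a) : ℕ)
  have hv : orderOf v = 2 ^ a := by
    rw [orderOf_pow' _ (pow_ne_zero _ two_ne_zero), hy, Nat.gcd_eq_right (pow_dvd_pow 2 (by omega)),
      Nat.pow_div (by omega) two_pos, Nat.sub_sub_self hab]
  obtain ⟨g, hg⟩ := hP 2 Nat.prime_two (zpowers x) (zpowers v) inferInstance inferInstance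
    (IsPGroup.iff_card.mpr ⟨a, by rw [Nat.card_zpowers, hx]⟩)
    (by rw [Nat.card_zpowers, Nat.card_zpowers, hx, hv])
  obtain ⟨w, hw, hwv⟩ := mem_map.mp (hg.le (mem_zpowers v))
  obtain ⟨j, rfl⟩ := mem_zpowers_iff.mp hw
  exact ⟨g, j, hwv.symm⟩

/-- If cyclic `p`-subgroups of equal order are conjugate, then there is at most one component. -/
theorem component_unique
    (hFT : ∀ (H : Type u) [Group H] [Finite H], Odd (Nat.card H) → Group.IsSolvable H)
    (hP : ∀ (p : ℕ), p.Prime → ∀ A B : Subgroup G, IsCyclic ↥A → IsCyclic ↥B → IsPGroup p ↥A →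
      Nat.card ↥A = Nat.card ↥B → ∃ g : G, B = A.map (MulAut.conj g).toMonoidHom)
    {K L : Subgroup G} (hK : Cfsg.IsComponent K) (hL : Cfsg.IsComponent L) : K = L := by
  classical
  haveI : Fact (Nat.Prime 2) := ⟨Nat.prime_two⟩
  by_contra hne
  -- elements centralising every component
  let Z : Subgroup G := ⨅ M : {M : Subgroup G // Cfsg.IsComponent M}, centralizer (M.1 : Set G)
  have hZ : ∀ {z : G}, z ∈ Z ↔ ∀ M, Cfsg.IsComponent M → ∀ m ∈ M, Commute z m := by
    intro z
    rw [mem_iInf]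
    constructor
    · intro h M hM m hm
      exact (mem_centralizer_iff.mp (h ⟨M, hM⟩) m hm).symm
    · intro h M
      rw [mem_centralizer_iff]
      intro m hm
      exact (h M.1 M.2 m hm : Commute z m).eq.symm
  have hZn : ∀ z ∈ Z, ∀ g : G, g * z * g⁻¹ ∈ Z := by
    intro z hz g
    rw [hZ]
    intro M hM m hm
    have h1 := hZ.mp hz _ (IsComponent.conj hM g⁻¹) (g⁻¹ * m * g) ⟨m, hm, by simp⟩
    show g * z * g⁻¹ * m = m * (g * z * g⁻¹)
    calc g * z * g⁻¹ * m = g * (z * (g⁻¹ * m * g)) * g⁻¹ := by group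
      _ = g * (g⁻¹ * m * g * z) * g⁻¹ := by rw [h1.eq]
      _ = m * (g * z * g⁻¹) := by group
  have hcomm : ∀ M N : Subgroup G, Cfsg.IsComponent M → Cfsg.IsComponent N → M ≠ N →
      ∀ m ∈ M, ∀ n ∈ N, Commute m n := fun M N hM hN h m hm n hn =>
    commutatorElement_eq_one_iff_commute.mp (mem_bot.mp
      ((IsComponent.commutator_eq_bot_of_ne hM hN h).le (commutator_mem_commutator hm hn)))
  -- an element of a component inducing an involution on it
  have key : ∀ M : Subgroup G, Cfsg.IsComponent M →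
      ∃ x ∈ M, (∃ a, orderOf x = 2 ^ a) ∧ x * x ∈ Z ∧ ∃ m ∈ M, ¬ Commute x m := by
    intro M hM
    haveI := hM.2.1
    have heven : 2 ∣ Nat.card (M ⧸ center M) := by
      by_contra h
      have hsol := hFT _ (Nat.not_even_iff_odd.mp fun e => h e.two_dvd)
      haveI := hM.2.2
      have hc : ∀ a b : M ⧸ center M, a * b = b * a :=
        fun a b => IsSimpleGroup.comm_iff_isSolvable.mpr hsol a b
      have h1 : commutator M ≤ center M :=
        Subgroup.Normal.quotient_commutative_iff_commutator_le.mp ⟨⟨hc⟩⟩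
      rw [Group.IsPerfect.commutator_eq_top] at h1
      exact IsQuasisimple.center_ne_top hM.2 (top_unique h1)
    obtain ⟨t, ht⟩ := exists_prime_orderOf_dvd_card' 2 heven
    obtain ⟨x, rfl⟩ := QuotientGroup.mk'_surjective (center M) t
    have hx2 : (x : M) ^ 2 ∈ center M := by
      rw [← QuotientGroup.eq_one_iff, QuotientGroup.mk_pow, ← ht]
      exact pow_orderOf_eq_one _
    set o := orderOf x
    set m := o / 2 ^ o.factorization 2
    have hm : Odd m := Nat.odd_iff.mpr (by
      have := Nat.not_dvd_ordCompl Nat.prime_two (orderOf_pos x).ne'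
      rw [Nat.dvd_iff_mod_eq_zero] at this
      have h2 := Nat.mod_two_eq_zero_or_one m
      exact h2.resolve_left this)
    obtain ⟨j, hj⟩ := hm
    set x' := x ^ m
    have hx'c : x' ∉ center M := by
      intro h
      have hxc : x ∈ center M := by
        have h1 : x' = (x ^ 2) ^ j * x := by rw [← pow_mul, ← pow_succ, ← hj]
        rw [h1] at h
        exact (mul_mem_cancel_left (pow_mem hx2 j)).mp h
      rw [show QuotientGroup.mk' (center M) x = 1 from (QuotientGroup.eq_one_iff x).mpr hxc,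
        orderOf_one] at ht
      omega
    refine ⟨(x' : G), x'.2, ?_, ?_, ?_⟩
    · refine ⟨o.factorization 2, (Subgroup.orderOf_coe x').trans ?_⟩
      rw [orderOf_pow' _ (Nat.ordCompl_pos 2 (orderOf_pos x).ne').ne',
        Nat.gcd_eq_right (Nat.ordCompl_dvd o 2)]
      exact Nat.div_eq_of_eq_mul_left (Nat.ordCompl_pos 2 (orderOf_pos x).ne')
        (Nat.ordProj_mul_ordCompl_eq_self o 2).symm
    · have hc : x' * x' ∈ center M := by
        rw [← sq, ← pow_mul, mul_comm, pow_mul]; exact pow_mem hx2 _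
      rw [hZ]
      intro N hN n hn
      rcases eq_or_ne M N with e | e
      · subst e
        exact (congrArg Subtype.val (mem_center_iff.mp hc ⟨n, hn⟩)).symm
      · exact (hcomm M N hM hN e _ x'.2 n hn).mul_left (hcomm M N hM hN e _ x'.2 n hn)
    · obtain ⟨n, hn⟩ : ∃ n : M, ¬ n * x' = x' * n := by
        by_contra hall
        push Not at hall
        exact hx'c (mem_center_iff.mpr hall)
      exact ⟨n, n.2, fun h => hn (Subtype.ext h.eq.symm)⟩
  obtain ⟨x, hxK, ⟨a, ha⟩, hx2, k, hk, hxk⟩ := key K hK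
  obtain ⟨y, hyL, ⟨b, hb⟩, hy2, l, hl, hyl⟩ := key L hL
  have hxy : Commute x y := hcomm K L hK hL hne x hxK y hyL
  have hxZ : x ∉ Z := fun h => hxk (hZ.mp h K hK k hk)
  have hxyZ : x * y ∉ Z := fun h => hxk (by
    have h1 := hZ.mp h K hK k hk
    have h2 := (hcomm L K hL hK (Ne.symm hne) y hyL k hk).inv_left
    simpa using h1.mul_left h2)
  obtain ⟨c, -, hc⟩ : ∃ c, c ≤ max a b ∧ orderOf (x * y) = 2 ^ c := (Nat.dvd_prime_pow Nat.prime_two).mp
    (hxy.orderOf_mul_dvd_lcm.trans (by
      rw [ha, hb]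
      exact Nat.lcm_dvd (pow_dvd_pow 2 (le_max_left a b)) (pow_dvd_pow 2 (le_max_right a b))))
  have hxy2 : (x * y) * (x * y) ∈ Z := by
    rw [show x * y * (x * y) = (x * x) * (y * y) by
      rw [mul_assoc x y, ← mul_assoc y x, ← hxy.eq]; group]
    exact mul_mem hx2 hy2
  have hpow : ∀ {u : G}, u * u ∈ Z → ∀ n : ℕ, 0 < n → u ^ (2 ^ n : ℕ) ∈ Z := fun {u} hu n hn => by
    rw [show 2 ^ n = 2 * 2 ^ (n - 1) by rw [← pow_succ']; congr 1; omega, pow_mul, sq]
    exact pow_mem hu _
  have hzpow : ∀ {u : G}, u * u ∈ Z → ∀ j : ℤ, u ^ j ∈ Z ∨ u ^ j * u⁻¹ ∈ Z := fun {u} hu j => by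
    rcases Int.even_or_odd' j with ⟨i, rfl | rfl⟩
    · left; rw [zpow_mul, zpow_two]; exact zpow_mem hu i
    · right; rw [zpow_add_one, mul_inv_cancel_right, zpow_mul, zpow_two]; exact zpow_mem hu i
  -- one of `x`, `x * y` is conjugate to the other modulo `Z`
  obtain ⟨g, hg⟩ : ∃ g : G, g * x * g⁻¹ * (x * y)⁻¹ ∈ Z := by
    rcases le_total a c with hac | hca
    · obtain ⟨g, j, hgj⟩ := exists_conj_mem hP ha hc hac
      rcases hzpow hx2 j with h | h
      · exfalso
        rcases Nat.eq_zero_or_pos (c - a) with e | e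
        · rw [e, pow_zero, pow_one] at hgj
          exact hxyZ (hgj ▸ hZn _ h g)
        · obtain ⟨g', j', hgj'⟩ := exists_conj_mem hP ha ha le_rfl
          have hcz : g * x ^ j * g⁻¹ ∈ Z := hgj ▸ hpow hxy2 _ e
          have hxj : x ∈ zpowers (x ^ j) := by
            have ho : orderOf (x ^ j) = 2 ^ a := by
              have h3 : orderOf (g * x ^ j * g⁻¹) = 2 ^ a := by
                rw [← hgj, orderOf_pow' _ (pow_ne_zero _ two_ne_zero), hc,
                  Nat.gcd_eq_right (pow_dvd_pow 2 (by omega)), Nat.pow_div (by omega) two_pos,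
                  Nat.sub_sub_self hac]
              rw [← h3]
              exact (orderOf_injective (MulAut.conj g).toMonoidHom (MulAut.conj g).injective _).symm
            rw [Subgroup.eq_of_le_of_card_ge (zpowers_le.mpr (zpow_mem (mem_zpowers x) j))
              (by rw [Nat.card_zpowers, Nat.card_zpowers, ho, ha])]
            exact mem_zpowers x
          exact hxZ (zpowers_le.mpr h hxj)
      · rcases Nat.eq_zero_or_pos (c - a) with e | e
        · rw [e, pow_zero, pow_one] at hgj
          refine ⟨g, ?_⟩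
          have e2 : g * x * g⁻¹ * (x * y)⁻¹ = g * (x ^ j * x⁻¹)⁻¹ * g⁻¹ := by rw [hgj]; group
          rw [e2]
          exact hZn _ (inv_mem h) g
        · exfalso
          have h1 : x ^ j ∈ Z := by
            have := hZn _ (hpow hxy2 _ e) g⁻¹
            rwa [hgj, inv_inv, show g⁻¹ * (g * x ^ j * g⁻¹) * g = x ^ j by group] at this
          exact hxZ (by simpa using mul_mem (inv_mem h) h1)
    · obtain ⟨g, j, hgj⟩ := exists_conj_mem hP hc ha hca
      rcases Nat.eq_zero_or_pos (a - c) with e | e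
      · rw [e, pow_zero, pow_one] at hgj
        rcases hzpow hxy2 j with h | h
        · exact absurd (hgj ▸ hZn _ h g) hxZ
        · refine ⟨g⁻¹, ?_⟩
          have e3 : g⁻¹ * x * g = (x * y) ^ j :=
            (congrArg (fun w => g⁻¹ * w * g) hgj).trans (by group)
          rw [inv_inv, e3]
          exact h
      · exfalso
        have h1 : (x * y) ^ j ∈ Z := by
          have := hZn _ (hpow hx2 _ e) g⁻¹
          rwa [hgj, inv_inv, show g⁻¹ * (g * (x * y) ^ j * g⁻¹) * g = (x * y) ^ j by group] at this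
        have ho : orderOf ((x * y) ^ j) = 2 ^ c := by
          have h3 : orderOf (g * (x * y) ^ j * g⁻¹) = 2 ^ c := by
            rw [← hgj, orderOf_pow' _ (pow_ne_zero _ two_ne_zero), ha,
              Nat.gcd_eq_right (pow_dvd_pow 2 (by omega)), Nat.pow_div (by omega) two_pos,
              Nat.sub_sub_self hca]
          rw [← h3]
          exact (orderOf_injective (MulAut.conj g).toMonoidHom (MulAut.conj g).injective _).symm
        have hmem : x * y ∈ zpowers ((x * y) ^ j) := by
          rw [Subgroup.eq_of_le_of_card_ge (zpowers_le.mpr (zpow_mem (mem_zpowers (x * y)) j))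
            (by rw [Nat.card_zpowers, Nat.card_zpowers, ho, hc])]
          exact mem_zpowers _
        exact hxyZ (zpowers_le.mpr h1 hmem)
  set K' := K.map (MulAut.conj g).toMonoidHom
  have hK' : Cfsg.IsComponent K' := IsComponent.conj hK g
  have hxK' : g * x * g⁻¹ ∈ K' := ⟨x, hxK, rfl⟩
  set z := g * x * g⁻¹ * (x * y)⁻¹ with hz
  have hgx : g * x * g⁻¹ = z * (x * y) := by rw [hz]; group
  rcases eq_or_ne K' K with e | e
  · apply hyl
    have h1 : Commute (g * x * g⁻¹) l := hcomm K L hK hL hne _ (e ▸ hxK') l hl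
    rw [hgx] at h1
    have h2 : Commute z l := hZ.mp hg L hL l hl
    have h3 : Commute x l := hcomm K L hK hL hne x hxK l hl
    have := (h3.inv_left.mul_left (h2.inv_left.mul_left h1))
    simpa using this
  · apply hxk
    have h1 : Commute (g * x * g⁻¹) k := hcomm K' K hK' hK e _ hxK' k hk
    rw [hgx] at h1
    have h2 : Commute z k := hZ.mp hg K hK k hk
    have h3 : Commute y k := hcomm L K hL hK (Ne.symm hne) y hyL k hk
    have := (h2.inv_left.mul_left h1).mul_left h3.inv_left
    simpa using this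

/-- The layer is quasisimple. -/
theorem layer_simple
    (hFT : ∀ (H : Type u) [Group H] [Finite H], Odd (Nat.card H) → Group.IsSolvable H)
    (hP : ∀ (p : ℕ), p.Prime → ∀ A B : Subgroup G, IsCyclic ↥A → IsCyclic ↥B → IsPGroup p ↥A →
      Nat.card ↥A = Nat.card ↥B → ∃ g : G, B = A.map (MulAut.conj g).toMonoidHom)
    (hE : Cfsg.layer G ≠ ⊥) :
    IsSimpleGroup (↥(Cfsg.layer G) ⧸ center ↥(Cfsg.layer G)) ∧
      ¬ IsMulCommutative (↥(Cfsg.layer G) ⧸ center ↥(Cfsg.layer G)) := by
  obtain ⟨K, hK⟩ : ∃ K : Subgroup G, Cfsg.IsComponent K := by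
    by_contra hcon
    push Not at hcon
    exact hE (le_bot_iff.mp (sSup_le fun K hK => absurd hK (hcon K)))
  have hlayer : Cfsg.layer G = K := le_antisymm
    (sSup_le fun L hL => (component_unique hFT hP hL hK).le) (le_sSup hK)
  have hq : Cfsg.IsQuasisimple (Cfsg.layer G) := hlayer ▸ hK.2
  refine ⟨hq.2, fun hc => IsQuasisimple.center_ne_top hq (top_unique ?_)⟩
  have h1 : commutator ↥(Cfsg.layer G) ≤ center ↥(Cfsg.layer G) :=
    Subgroup.Normal.quotient_commutative_iff_commutator_le.mp hc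
  haveI := hq.1
  rwa [Group.IsPerfect.commutator_eq_top] at h1

end CfsgLib.CyclicConj
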